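import Mathlib
import Groth.Agent.Lib.Helper2.Grpd.InvOpen3
import Groth.Agent.Lib.Helper7.AffCover.Main

/-!
# Finite sets of points in affine opens, componentwise (helper7)

Coset prime avoidance, gluing of two affine opens of two closed subschemes covering `X` into an
affine open of `X` (affineness through `AffCover`), and induction on the number of closed pieces.
-/

set_option linter.style.haveILetI false
set_option linter.unusedVariables false
set_option linter.unusedSectionVars false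
set_option autoImplicit false
set_option backward.isDefEq.respectTransparency.types false
set_option synthInstance.maxHeartbeats 400000
set_option maxHeartbeats 1600000

universe u v

namespace Groth.Agent.Helper7.AffPts

open CategoryTheory CategoryTheory.Limits AlgebraicGeometry TopologicalSpace Opposite
open Groth.Agent.Helper7.AffCover
open Groth.Agent.Helper2.GrpdLib.InvOpen

/-- coset prime avoidance -/
theorem coset_avoid {R : Type*} [CommRing R] (I : Ideal R) :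
    ∀ (n : ℕ) (s : Finset (Ideal R)), s.card = n → (∀ p ∈ s, p.IsPrime ∧ ¬ I ≤ p) →
      ∀ x : R, ∃ a ∈ I, ∀ p ∈ s, x + a ∉ p := by
  classical
  intro n
  induction n with
  | zero =>
    intro s hs _ x
    rw [Finset.card_eq_zero] at hs
    subst hs
    exact ⟨0, I.zero_mem, fun p hp => absurd hp (Finset.notMem_empty p)⟩
  | succ n ih =>
    intro s hs hp x
    have hne : s.Nonempty := by
      rw [← Finset.card_pos, hs]; exact Nat.succ_pos n
    obtain ⟨q, hq', hmin⟩ := s.exists_minimal hne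
    have hcard : (s.erase q).card = n := by
      rw [Finset.card_erase_of_mem hq', hs]; rfl
    obtain ⟨a', ha'I, ha'⟩ := ih (s.erase q) hcard
      (fun p hp' => hp p (Finset.mem_of_mem_erase hp')) x
    by_cases hxq : x + a' ∈ q
    · have hqp : q.IsPrime := (hp q hq').1
      have hnot : ¬ (I ⊓ (s.erase q).inf id ≤ q) := by
        intro hle
        rcases (Ideal.IsPrime.inf_le hqp).mp hle with h1 | h1
        · exact (hp q hq').2 h1
        · obtain ⟨p, hps, hpq⟩ := (Ideal.IsPrime.inf_le' hqp).mp h1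
          have hps' : p ∈ s := Finset.mem_of_mem_erase hps
          have h2 : q ≤ p := hmin hps' hpq
          exact (Finset.ne_of_mem_erase hps) (le_antisymm hpq h2)
      obtain ⟨a'', ha''mem, ha''q⟩ := SetLike.not_le_iff_exists.mp hnot
      refine ⟨a' + a'', I.add_mem ha'I ha''mem.1, fun p hps => ?_⟩
      by_cases hpq : p = q
      · subst hpq
        intro hmem
        apply ha''q
        have h3 : a'' = (x + (a' + a'')) - (x + a') := by ring
        rw [h3]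
        exact p.sub_mem hmem hxq
      · have hpe : p ∈ s.erase q := Finset.mem_erase.mpr ⟨hpq, hps⟩
        intro hmem
        apply ha' p hpe
        have h2 : a'' ∈ p := by
          have h4 : (s.erase q).inf id ≤ p := Finset.inf_le (f := id) hpe
          exact h4 ha''mem.2
        have h3 : x + a' = (x + (a' + a'')) - a'' := by ring
        rw [h3]
        exact p.sub_mem hmem h2
    · refine ⟨a', ha'I, fun p hps => ?_⟩
      by_cases hpq : p = q
      · subst hpq; exact hxq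
      · exact ha' p (Finset.mem_erase.mpr ⟨hpq, hps⟩)

/-- geometric coset prime avoidance -/
theorem exists_add_mul_basicOpen {Y : Scheme.{u}} {V : Y.Opens} (h₀ b : Γ(Y, V)) (F : Set Y)
    (hF : F.Finite) (hFb : F ⊆ Y.basicOpen b) :
    ∃ c : Γ(Y, V), F ⊆ Y.basicOpen (h₀ + c * b) := by
  classical
  let P : V → Ideal Γ(Y, V) := fun y =>
    Ideal.comap (Y.presheaf.germ V y.1 y.2).hom (IsLocalRing.maximalIdeal (Y.presheaf.stalk y.1))
  have hPprime : ∀ y, (P y).IsPrime := fun y => Ideal.comap_isPrime _ _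
  have hPmem : ∀ (y : V) (f : Γ(Y, V)), f ∈ P y ↔ (y : Y) ∉ Y.basicOpen f := by
    intro y f
    rw [Y.mem_basicOpen f y.1 y.2]
    show (Y.presheaf.germ V y.1 y.2).hom f ∈ IsLocalRing.maximalIdeal _ ↔ _
    rw [IsLocalRing.mem_maximalIdeal, mem_nonunits_iff]
  have hF' : {y : V | (y : Y) ∈ F}.Finite := hF.preimage Subtype.val_injective.injOn
  let s : Finset (Ideal Γ(Y, V)) := hF'.toFinset.image P
  have hs : ∀ p ∈ s, p.IsPrime ∧ ¬ Ideal.span {b} ≤ p := by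
    intro p hp
    obtain ⟨y, hy, rfl⟩ := Finset.mem_image.mp hp
    have hyF : (y : Y) ∈ F := (Set.Finite.mem_toFinset hF').mp hy
    refine ⟨hPprime y, fun hle => ?_⟩
    have h1 : b ∈ P y := hle (Ideal.subset_span (Set.mem_singleton b))
    rw [hPmem] at h1
    exact h1 (hFb hyF)
  obtain ⟨a, haI, ha⟩ := coset_avoid (Ideal.span {b}) s.card s rfl hs h₀
  obtain ⟨c, rfl⟩ := Ideal.mem_span_singleton'.mp haI
  refine ⟨c, fun y hy => ?_⟩
  have hyV : y ∈ V := Y.basicOpen_le b (hFb hy)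
  have hmem : P ⟨y, hyV⟩ ∈ s :=
    Finset.mem_image.mpr ⟨⟨y, hyV⟩, (Set.Finite.mem_toFinset hF').mpr hy, rfl⟩
  have h1 := ha _ hmem
  rw [hPmem] at h1
  exact not_not.mp h1

/-- an open of `X` whose traces on two covering closed subschemes are affine is affine -/
theorem isAffineOpen_of_two {X Y₁ Y₂ : Scheme.{u}} (i₁ : Y₁ ⟶ X) (i₂ : Y₂ ⟶ X)
    [IsClosedImmersion i₁] [IsClosedImmersion i₂] (W : X.Opens)
    (h₁ : IsAffineOpen (i₁ ⁻¹ᵁ W)) (h₂ : IsAffineOpen (i₂ ⁻¹ᵁ W))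
    (hcov : ∀ x ∈ W, x ∈ Set.range i₁ ∨ x ∈ Set.range i₂) : IsAffineOpen W := by
  haveI c1 : IsClosedImmersion (i₁ ∣_ W) := IsZariskiLocalAtTarget.restrict (P := @IsClosedImmersion) inferInstance W
  haveI c2 : IsClosedImmersion (i₂ ∣_ W) := IsZariskiLocalAtTarget.restrict (P := @IsClosedImmersion) inferInstance W
  haveI a1 : IsAffine (i₁ ⁻¹ᵁ W).toScheme := h₁
  haveI a2 : IsAffine (i₂ ⁻¹ᵁ W).toScheme := h₂
  show IsAffine W.toScheme
  refine isAffine_of_list W.toScheme [(i₁ ∣_ W).ker, (i₂ ∣_ W).ker] ?_ ?_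
  · intro I hI
    rcases List.mem_cons.mp hI with rfl | hI
    · exact IsAffine.of_isIso (inv (i₁ ∣_ W).toImage)
    · rcases List.mem_cons.mp hI with rfl | hI
      · exact IsAffine.of_isIso (inv (i₂ ∣_ W).toImage)
      · exact absurd hI List.not_mem_nil
  · intro x
    rcases hcov x.1 x.2 with ⟨y, hy⟩ | ⟨z, hz⟩
    · have hyW : y ∈ i₁ ⁻¹ᵁ W := by
        show i₁ y ∈ W
        rw [hy]; exact x.2
      refine ⟨(i₁ ∣_ W).ker, List.mem_cons_self,
        (i₁ ∣_ W).range_subset_ker_support ⟨⟨y, hyW⟩, ?_⟩⟩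
      exact Subtype.ext ((morphismRestrict_base_coe i₁ W _).trans hy)
    · have hzW : z ∈ i₂ ⁻¹ᵁ W := by
        show i₂ z ∈ W
        rw [hz]; exact x.2
      refine ⟨(i₂ ∣_ W).ker, List.mem_cons_of_mem _ List.mem_cons_self,
        (i₂ ∣_ W).range_subset_ker_support ⟨⟨z, hzW⟩, ?_⟩⟩
      exact Subtype.ext ((morphismRestrict_base_coe i₂ W _).trans hz)

/-- the two-piece gluing, with the intersection `Q` of the two pieces abstract -/
theorem two_aux {X Y₁ Y₂ Q : Scheme.{u}} (i₁ : Y₁ ⟶ X) (i₂ : Y₂ ⟶ X) (p₁ : Q ⟶ Y₁) (p₂ : Q ⟶ Y₂)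
    [IsClosedImmersion i₁] [IsClosedImmersion i₂] [IsClosedImmersion p₁]
    (hcond : ∀ w : Q, i₁ (p₁ w) = i₂ (p₂ w))
    (hpb : ∀ (y : Y₁) (z : Y₂), i₁ y = i₂ z → ∃ w : Q, p₁ w = y ∧ p₂ w = z)
    (hcov : ∀ x : X, x ∈ Set.range i₁ ∨ x ∈ Set.range i₂)
    (T : Set X) (hT : T.Finite)
    (V₁ : Y₁.Opens) (hV₁ : IsAffineOpen V₁) (hT₁ : ∀ y, i₁ y ∈ T → y ∈ V₁)
    (V₂ : Y₂.Opens) (hV₂ : IsAffineOpen V₂) (hT₂ : ∀ z, i₂ z ∈ T → z ∈ V₂) :
    ∃ U : X.Opens, IsAffineOpen U ∧ T ⊆ U := by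
  classical
  have inj₁ : Function.Injective i₁ := i₁.isClosedEmbedding.injective
  have inj₂ : Function.Injective i₂ := i₂.isClosedEmbedding.injective
  have hE₁ : (i₁ ⁻¹' T).Finite := hT.preimage inj₁.injOn
  have hE₂ : (i₂ ⁻¹' T).Finite := hT.preimage inj₂.injOn
  -- step (a)
  have hC₂ : IsClosed (i₂ '' (V₂ : Set Y₂)ᶜ) :=
    i₂.isClosedEmbedding.isClosedMap _ V₂.isOpen.isClosed_compl
  let O₂ : X.Opens := ⟨(i₂ '' (V₂ : Set Y₂)ᶜ)ᶜ, hC₂.isOpen_compl⟩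
  have hsub₁ : ∀ y, i₁ y ∈ T → y ∈ V₁ ⊓ i₁ ⁻¹ᵁ O₂ := by
    intro y hy
    refine Opens.mem_inf.mpr ⟨hT₁ y hy, ?_⟩
    show i₁ y ∉ i₂ '' (V₂ : Set Y₂)ᶜ
    rintro ⟨z, hz, hzy⟩
    exact hz (hT₂ z (by rw [hzy]; exact hy))
  obtain ⟨f₁, hf₁E, hf₁W⟩ := exists_basicOpen_of_finite_subset hV₁
    (V₁ ⊓ i₁ ⁻¹ᵁ O₂) (i₁ ⁻¹' T) hE₁ (fun y hy => hsub₁ y hy) (fun y hy => hT₁ y hy)
  have hD10 : IsAffineOpen (Y₁.basicOpen f₁) := hV₁.basicOpen f₁
  have hD10O : ∀ y ∈ Y₁.basicOpen f₁, i₁ y ∉ i₂ '' (V₂ : Set Y₂)ᶜ :=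
    fun y hy => (Opens.mem_inf.mp (hf₁W hy)).2
  -- step (b)
  have hC₁ : IsClosed (i₁ '' ((Y₁.basicOpen f₁ : Y₁.Opens) : Set Y₁)ᶜ) :=
    i₁.isClosedEmbedding.isClosedMap _ (Y₁.basicOpen f₁).isOpen.isClosed_compl
  let O₁ : X.Opens := ⟨(i₁ '' ((Y₁.basicOpen f₁ : Y₁.Opens) : Set Y₁)ᶜ)ᶜ, hC₁.isOpen_compl⟩
  have hsub₂ : ∀ z, i₂ z ∈ T → z ∈ V₂ ⊓ i₂ ⁻¹ᵁ O₁ := by
    intro z hz
    refine Opens.mem_inf.mpr ⟨hT₂ z hz, ?_⟩
    show i₂ z ∉ i₁ '' ((Y₁.basicOpen f₁ : Y₁.Opens) : Set Y₁)ᶜ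
    rintro ⟨y, hy, hyz⟩
    exact hy (hf₁E (show i₁ y ∈ T by rw [hyz]; exact hz))
  obtain ⟨g, hgE, hgW⟩ := exists_basicOpen_of_finite_subset hV₂
    (V₂ ⊓ i₂ ⁻¹ᵁ O₁) (i₂ ⁻¹' T) hE₂ (fun z hz => hsub₂ z hz) (fun z hz => hT₂ z hz)
  have hD₂ : IsAffineOpen (Y₂.basicOpen g) := hV₂.basicOpen g
  have hD₂O : ∀ z ∈ Y₂.basicOpen g, i₂ z ∉ i₁ '' ((Y₁.basicOpen f₁ : Y₁.Opens) : Set Y₁)ᶜ :=
    fun z hz => (Opens.mem_inf.mp (hgW hz)).2
  -- step (c)
  have hP : IsAffineOpen (p₁ ⁻¹ᵁ Y₁.basicOpen f₁) := hD10.preimage p₁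
  have hPle : p₁ ⁻¹ᵁ Y₁.basicOpen f₁ ≤ p₂ ⁻¹ᵁ V₂ := by
    intro w hw
    show p₂ w ∈ V₂
    by_contra hcon
    exact hD10O (p₁ w) hw ⟨p₂ w, hcon, (hcond w).symm⟩
  let gbar : Γ(Q, p₁ ⁻¹ᵁ Y₁.basicOpen f₁) := p₂.appLE V₂ (p₁ ⁻¹ᵁ Y₁.basicOpen f₁) hPle g
  have hgbar : Q.basicOpen gbar = p₂ ⁻¹ᵁ Y₂.basicOpen g := by
    show Q.basicOpen (p₂.appLE V₂ (p₁ ⁻¹ᵁ Y₁.basicOpen f₁) hPle g) = _
    rw [Scheme.basicOpen_appLE]
    apply le_antisymm inf_le_right
    refine le_inf ?_ le_rfl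
    intro w hw
    show p₁ w ∈ Y₁.basicOpen f₁
    by_contra hcon
    exact hD₂O (p₂ w) hw ⟨p₁ w, hcon, hcond w⟩
  -- step (d)
  obtain ⟨h₀, hh₀⟩ := Scheme.Hom.app_surjective p₁ (Y₁.basicOpen f₁) hD10 gbar
  -- step (e)
  have hrange : IsClosed (Set.range p₁) := p₁.isClosedEmbedding.isClosed_range
  let Oc : Y₁.Opens := ⟨(Set.range p₁)ᶜ, hrange.isOpen_compl⟩
  have hF : ((i₁ ⁻¹' T) \ Set.range p₁).Finite := hE₁.subset Set.sdiff_subset
  obtain ⟨b, hbF, hbO⟩ := exists_basicOpen_of_finite_subset hD10 Oc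
    ((i₁ ⁻¹' T) \ Set.range p₁) hF (fun y hy => hy.2) (fun y hy => hf₁E hy.1)
  have hb0 : Q.basicOpen (p₁.app (Y₁.basicOpen f₁) b) = ⊥ := by
    rw [← Scheme.preimage_basicOpen]
    refine eq_bot_iff.mpr fun w hw => ?_
    exact ((show p₁ w ∉ Set.range p₁ from hbO hw) ⟨w, rfl⟩).elim
  have hnil : IsNilpotent (p₁.app (Y₁.basicOpen f₁) b) :=
    (Scheme.isNilpotent_iff_basicOpen_eq_bot_of_isCompact hP.isCompact _).mpr hb0
  obtain ⟨n, hn⟩ := hnil
  have hb' : p₁.app (Y₁.basicOpen f₁) (b ^ (n + 1)) = 0 := by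
    rw [map_pow, pow_succ, hn, zero_mul]
  have hbF' : ((i₁ ⁻¹' T) \ Set.range p₁) ⊆ Y₁.basicOpen (b ^ (n + 1)) := by
    rw [Y₁.basicOpen_pow b (Nat.succ_pos n)]
    exact hbF
  -- step (f)
  obtain ⟨c, hc⟩ := exists_add_mul_basicOpen h₀ (b ^ (n + 1)) _ hF hbF'
  have hh : p₁.app (Y₁.basicOpen f₁) (h₀ + c * b ^ (n + 1)) = gbar := by
    rw [map_add, map_mul, hb', mul_zero, add_zero, hh₀]
  have hD₁ : IsAffineOpen (Y₁.basicOpen (h₀ + c * b ^ (n + 1))) := hD10.basicOpen _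
  -- step (g)
  have hpre : p₁ ⁻¹ᵁ Y₁.basicOpen (h₀ + c * b ^ (n + 1)) = p₂ ⁻¹ᵁ Y₂.basicOpen g := by
    rw [Scheme.preimage_basicOpen, hh, hgbar]
  -- step (h)
  have hE₁D : ∀ y, i₁ y ∈ T → y ∈ Y₁.basicOpen (h₀ + c * b ^ (n + 1)) := by
    intro y hy
    by_cases hyr : y ∈ Set.range p₁
    · obtain ⟨w, rfl⟩ := hyr
      have h1 : p₂ w ∈ Y₂.basicOpen g :=
        hgE (show i₂ (p₂ w) ∈ T by rw [← hcond w]; exact hy)
      have h2 : w ∈ p₁ ⁻¹ᵁ Y₁.basicOpen (h₀ + c * b ^ (n + 1)) := by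
        rw [hpre]; exact h1
      exact h2
    · exact hc ⟨hy, hyr⟩
  -- step (i)
  have hCW : IsClosed (i₁ '' ((Y₁.basicOpen (h₀ + c * b ^ (n + 1)) : Y₁.Opens) : Set Y₁)ᶜ ∪
      i₂ '' ((Y₂.basicOpen g : Y₂.Opens) : Set Y₂)ᶜ) :=
    (i₁.isClosedEmbedding.isClosedMap _
      (Y₁.basicOpen (h₀ + c * b ^ (n + 1))).isOpen.isClosed_compl).union
      (i₂.isClosedEmbedding.isClosedMap _ (Y₂.basicOpen g).isOpen.isClosed_compl)
  let W : X.Opens := ⟨_, hCW.isOpen_compl⟩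
  have hW₁ : i₁ ⁻¹ᵁ W = Y₁.basicOpen (h₀ + c * b ^ (n + 1)) := by
    ext y
    show i₁ y ∉ (i₁ '' ((Y₁.basicOpen (h₀ + c * b ^ (n + 1)) : Y₁.Opens) : Set Y₁)ᶜ ∪
      i₂ '' ((Y₂.basicOpen g : Y₂.Opens) : Set Y₂)ᶜ) ↔ y ∈ Y₁.basicOpen (h₀ + c * b ^ (n + 1))
    constructor
    · intro hy
      by_contra hcon
      exact hy (Or.inl ⟨y, hcon, rfl⟩)
    · intro hy hmem
      rcases hmem with ⟨y', hy', hyy⟩ | ⟨z, hz, hzy⟩
      · exact hy' (inj₁ hyy ▸ hy)
      · obtain ⟨w, hw1, hw2⟩ := hpb y z hzy.symm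
        have h1 : w ∈ p₂ ⁻¹ᵁ Y₂.basicOpen g := by
          rw [← hpre]
          show p₁ w ∈ Y₁.basicOpen (h₀ + c * b ^ (n + 1))
          rw [hw1]; exact hy
        exact hz (by rw [← hw2]; exact h1)
  have hW₂ : i₂ ⁻¹ᵁ W = Y₂.basicOpen g := by
    ext z
    show i₂ z ∉ (i₁ '' ((Y₁.basicOpen (h₀ + c * b ^ (n + 1)) : Y₁.Opens) : Set Y₁)ᶜ ∪
      i₂ '' ((Y₂.basicOpen g : Y₂.Opens) : Set Y₂)ᶜ) ↔ z ∈ Y₂.basicOpen g
    constructor
    · intro hz
      by_contra hcon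
      exact hz (Or.inr ⟨z, hcon, rfl⟩)
    · intro hz hmem
      rcases hmem with ⟨y, hy, hyz⟩ | ⟨z', hz', hzz⟩
      · obtain ⟨w, hw1, hw2⟩ := hpb y z hyz
        have h1 : w ∈ p₁ ⁻¹ᵁ Y₁.basicOpen (h₀ + c * b ^ (n + 1)) := by
          rw [hpre]
          show p₂ w ∈ Y₂.basicOpen g
          rw [hw2]; exact hz
        exact hy (by rw [← hw1]; exact h1)
      · exact hz' (inj₂ hzz ▸ hz)
  have hTW : T ⊆ W := by
    intro t ht
    show t ∉ (i₁ '' ((Y₁.basicOpen (h₀ + c * b ^ (n + 1)) : Y₁.Opens) : Set Y₁)ᶜ ∪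
      i₂ '' ((Y₂.basicOpen g : Y₂.Opens) : Set Y₂)ᶜ)
    rintro (⟨y, hy, rfl⟩ | ⟨z, hz, rfl⟩)
    · exact hy (hE₁D y ht)
    · exact hz (hgE ht)
  refine ⟨W, isAffineOpen_of_two i₁ i₂ W ?_ ?_ (fun x _ => hcov x), hTW⟩
  · rw [hW₁]; exact hD₁
  · rw [hW₂]; exact hD₂

/-- the two-piece gluing -/
theorem two {X Y₁ Y₂ : Scheme.{u}} (i₁ : Y₁ ⟶ X) (i₂ : Y₂ ⟶ X)
    [IsClosedImmersion i₁] [IsClosedImmersion i₂]
    (hcov : ∀ x : X, x ∈ Set.range i₁ ∨ x ∈ Set.range i₂)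
    (T : Set X) (hT : T.Finite)
    (V₁ : Y₁.Opens) (hV₁ : IsAffineOpen V₁) (hT₁ : ∀ y, i₁ y ∈ T → y ∈ V₁)
    (V₂ : Y₂.Opens) (hV₂ : IsAffineOpen V₂) (hT₂ : ∀ z, i₂ z ∈ T → z ∈ V₂) :
    ∃ U : X.Opens, IsAffineOpen U ∧ T ⊆ U := by
  haveI : IsClosedImmersion (pullback.fst i₁ i₂) :=
    MorphismProperty.pullback_fst (P := @IsClosedImmersion) _ _ inferInstance
  refine two_aux i₁ i₂ (pullback.fst i₁ i₂) (pullback.snd i₁ i₂) ?_ ?_ hcov T hT V₁ hV₁ hT₁
    V₂ hV₂ hT₂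
  · intro w
    rw [← Scheme.Hom.comp_apply, ← Scheme.Hom.comp_apply, pullback.condition]
  · intro y z hyz
    exact Scheme.Pullback.exists_preimage_pullback y z hyz

theorem prodI_le {X : Scheme.{u}} :
    ∀ (l : List X.IdealSheafData) (I : X.IdealSheafData), I ∈ l → prodI l ≤ I
  | [], I, h => absurd h List.not_mem_nil
  | K :: l, I, h => by
    rcases List.mem_cons.mp h with rfl | h'
    · intro U
      show I.ideal U * (prodI l).ideal U ≤ I.ideal U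
      exact Ideal.mul_le_left
    · refine le_trans ?_ (prodI_le l I h')
      intro U
      show K.ideal U * (prodI l).ideal U ≤ (prodI l).ideal U
      exact Ideal.mul_le_right

theorem exists_mem_support_of_mem_prodI {X : Scheme.{u}} (x : X) :
    ∀ l : List X.IdealSheafData, x ∈ (prodI l).support → ∃ I ∈ l, x ∈ I.support
  | [], h => by
    exfalso
    have h1 : (prodI ([] : List X.IdealSheafData)).support = ⊥ :=
      Scheme.IdealSheafData.support_top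
    rw [h1] at h
    exact h
  | K :: l, h => by
    have h' : x ∈ (K * prodI l).support := h
    rw [Scheme.IdealSheafData.support_mul] at h'
    rcases h' with h1 | h1
    · exact ⟨K, List.mem_cons_self, h1⟩
    · obtain ⟨I, hI, hxI⟩ := exists_mem_support_of_mem_prodI x l h1
      exact ⟨I, List.mem_cons_of_mem _ hI, hxI⟩

/-- finitely many closed pieces -/
theorem multi (κ : Type u) [Finite κ] : ∀ (X : Scheme.{u}) (Y : κ → Scheme.{u})
    (i : ∀ k, Y k ⟶ X), (∀ k, IsClosedImmersion (i k)) → (∀ x : X, ∃ k, x ∈ Set.range (i k)) →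
    ∀ T : Set X, T.Finite →
    (∀ k, ∃ V : (Y k).Opens, IsAffineOpen V ∧ ∀ y, i k y ∈ T → y ∈ V) →
    ∃ U : X.Opens, IsAffineOpen U ∧ T ⊆ U := by
  refine Finite.induction_empty_option (P := fun κ : Type u => ∀ (X : Scheme.{u})
    (Y : κ → Scheme.{u})
    (i : ∀ k, Y k ⟶ X), (∀ k, IsClosedImmersion (i k)) → (∀ x : X, ∃ k, x ∈ Set.range (i k)) →
    ∀ T : Set X, T.Finite →
    (∀ k, ∃ V : (Y k).Opens, IsAffineOpen V ∧ ∀ y, i k y ∈ T → y ∈ V) →
    ∃ U : X.Opens, IsAffineOpen U ∧ T ⊆ U) ?_ ?_ ?_ κ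
  · intro α β e hα X Y i hci hcov T hT hV
    refine hα X (fun a => Y (e a)) (fun a => i (e a)) (fun a => hci (e a)) ?_ T hT
      (fun a => hV (e a))
    intro x
    obtain ⟨k, hk⟩ := hcov x
    have h1 : ∀ k', k' = k → x ∈ Set.range (i k') := by
      rintro _ rfl; exact hk
    exact ⟨e.symm k, h1 _ (e.apply_symm_apply k)⟩
  · intro X Y i hci hcov T hT hV
    refine ⟨⊥, isAffineOpen_bot X, fun t ht => ?_⟩
    obtain ⟨k, -⟩ := hcov t
    exact k.elim
  · intro α _ ih X Y i hci hcov T hT hV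
    classical
    haveI : ∀ k, IsClosedImmersion (i k) := hci
    let l : List X.IdealSheafData :=
      (Finset.univ : Finset α).toList.map fun k => (i (some k)).ker
    let J : X.IdealSheafData := prodI l
    have hJle : ∀ k : α, J ≤ (i (some k)).ker := fun k =>
      prodI_le l _ (List.mem_map.mpr ⟨k, Finset.mem_toList.mpr (Finset.mem_univ k), rfl⟩)
    have hJsupp : ∀ x ∈ J.support, ∃ k : α, x ∈ Set.range (i (some k)) := by
      intro x hx
      obtain ⟨I, hI, hxI⟩ := exists_mem_support_of_mem_prodI x l hx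
      obtain ⟨k, -, rfl⟩ := List.mem_map.mp hI
      refine ⟨k, ?_⟩
      have h2 : x ∈ closure (Set.range (i (some k))) := by
        rw [← (i (some k)).support_ker]; exact hxI
      rwa [(i (some k)).isClosedEmbedding.isClosed_range.closure_eq] at h2
    have hker : J.subschemeι.ker = J := J.ker_subschemeι
    let i' : ∀ k : α, Y (some k) ⟶ J.subscheme := fun k =>
      IsClosedImmersion.lift J.subschemeι (i (some k)) (by rw [hker]; exact hJle k)
    have hi' : ∀ k, i' k ≫ J.subschemeι = i (some k) :=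
      fun k => IsClosedImmersion.lift_fac _ _ _
    have hci' : ∀ k, IsClosedImmersion (i' k) := fun k => by
      haveI : IsClosedImmersion (i' k ≫ J.subschemeι) := by rw [hi' k]; infer_instance
      exact IsClosedImmersion.of_comp_isClosedImmersion (i' k) J.subschemeι
    have hinjJ : Function.Injective J.subschemeι := J.subschemeι.isClosedEmbedding.injective
    have hi'pt : ∀ (k : α) (y : Y (some k)), J.subschemeι (i' k y) = i (some k) y := by
      intro k y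
      rw [← Scheme.Hom.comp_apply, hi' k]
    have hcov' : ∀ x₁ : J.subscheme, ∃ k, x₁ ∈ Set.range (i' k) := by
      intro x₁
      have hx : J.subschemeι x₁ ∈ Set.range J.subschemeι := ⟨x₁, rfl⟩
      rw [J.range_subschemeι] at hx
      obtain ⟨k, y, hy⟩ := hJsupp _ hx
      refine ⟨k, y, ?_⟩
      apply hinjJ
      rw [hi'pt]; exact hy
    have hT₁ : (J.subschemeι ⁻¹' T).Finite := hT.preimage hinjJ.injOn
    have hV' : ∀ k : α, ∃ V : (Y (some k)).Opens, IsAffineOpen V ∧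
        ∀ y, i' k y ∈ J.subschemeι ⁻¹' T → y ∈ V := by
      intro k
      obtain ⟨V, hVa, hVT⟩ := hV (some k)
      refine ⟨V, hVa, fun y hy => hVT y ?_⟩
      rw [← hi'pt]; exact hy
    obtain ⟨U₁, hU₁, hTU₁⟩ := ih J.subscheme (fun k => Y (some k)) i' hci' hcov'
      (J.subschemeι ⁻¹' T) hT₁ hV'
    obtain ⟨V₂, hV₂a, hV₂T⟩ := hV none
    refine two J.subschemeι (i none) ?_ T hT U₁ hU₁ (fun y hy => hTU₁ hy) V₂ hV₂a hV₂T
    intro x
    obtain ⟨k, hk⟩ := hcov x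
    cases k with
    | none => exact Or.inr hk
    | some k =>
      obtain ⟨y, hy⟩ := hk
      exact Or.inl ⟨i' k y, by rw [hi'pt]; exact hy⟩

/-- the statement on irreducible components -/
theorem main (X : Scheme.{u})
    (hX : (irreducibleComponents (X : Type u)).Finite) (T : Finset X)
    (h : ∀ (Z : Set X) (hZ : Z ∈ irreducibleComponents (X : Type u)),
      ∃ V : (Scheme.IdealSheafData.vanishingIdeal
          (⟨Z, isClosed_of_mem_irreducibleComponents Z hZ⟩ :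
            TopologicalSpace.Closeds X)).subscheme.Opens,
        IsAffineOpen V ∧ ∀ t ∈ T, t ∈ Z → t ∈ (Scheme.IdealSheafData.vanishingIdeal
          (⟨Z, isClosed_of_mem_irreducibleComponents Z hZ⟩ :
            TopologicalSpace.Closeds X)).subschemeι.base '' (V : Set _)) :
    ∃ U : X.Opens, IsAffineOpen U ∧ ∀ t ∈ T, t ∈ U := by
  classical
  haveI : Finite ↥(irreducibleComponents (X : Type u)) := hX.to_subtype
  let I : ↥(irreducibleComponents (X : Type u)) → X.IdealSheafData := fun k =>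
    Scheme.IdealSheafData.vanishingIdeal
      (⟨k.1, isClosed_of_mem_irreducibleComponents k.1 k.2⟩ : TopologicalSpace.Closeds X)
  have hrange : ∀ k, Set.range (I k).subschemeι = k.1 := by
    intro k
    rw [(I k).range_subschemeι]
    exact Scheme.IdealSheafData.coe_support_vanishingIdeal _
  have hcov : ∀ x : X, ∃ k : ↥(irreducibleComponents (X : Type u)),
      x ∈ Set.range (I k).subschemeι := by
    intro x
    obtain ⟨Z, hZ, hxZ⟩ := exists_mem_irreducibleComponents_subset_of_isIrreducible {x}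
      isIrreducible_singleton
    refine ⟨⟨Z, hZ⟩, ?_⟩
    rw [hrange]
    exact hxZ (Set.mem_singleton x)
  have hV : ∀ k : ↥(irreducibleComponents (X : Type u)), ∃ V : (I k).subscheme.Opens,
      IsAffineOpen V ∧ ∀ y, (I k).subschemeι y ∈ (↑T : Set X) → y ∈ V := by
    intro k
    obtain ⟨V, hVa, hVT⟩ := h k.1 k.2
    refine ⟨V, hVa, fun y hy => ?_⟩
    have hyZ : (I k).subschemeι y ∈ k.1 := by
      rw [← hrange k]; exact ⟨y, rfl⟩
    obtain ⟨y', hy'V, hy'⟩ := hVT _ hy hyZ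
    have h3 : y' = y := (I k).subschemeι.isClosedEmbedding.injective hy'
    rw [← h3]; exact hy'V
  obtain ⟨U, hU, hTU⟩ := multi ↥(irreducibleComponents (X : Type u)) X
    (fun k => (I k).subscheme) (fun k => (I k).subschemeι) (fun k => inferInstance) hcov
    (↑T) T.finite_toSet hV
  exact ⟨U, hU, fun t ht => hTU ht⟩

end Groth.Agent.Helper7.AffPts
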